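import Groth.Prelude.Def_FrobAlg
import Mathlib.RingTheory.Etale.Basic
import Mathlib.RingTheory.Smooth.Flat
import Mathlib.RingTheory.Unramified.Basic
import Mathlib.RingTheory.Flat.FaithfullyFlat.Algebra
import Mathlib.RingTheory.Ideal.GoingUp
import Mathlib.RingTheory.Ideal.IdempotentFG
import Mathlib.FieldTheory.Perfect

/-!
# The relative Frobenius of an algebra
-/

set_option autoImplicit false
universe u

open TensorProduct

namespace Groth.Agent.RelFrob23

variable (p : ℕ) [Fact p.Prime] (A : Type u) [CommRing A] [CharP A p]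
  (B : Type u) [CommRing B] [Algebra A B] [CharP B p]

lemma relFrob_tmul (b : B) (a : FrobAlg.Twist p A) :
    FrobAlg.relFrob p A B (b ⊗ₜ a) = b ^ p * algebraMap A B ((FrobAlg.toTwist p A).symm a) := by
  simp [FrobAlg.relFrob, FrobAlg.frobHom, FrobAlg.inclHom]
  rfl

lemma relFrob_tmul_one (b : B) : FrobAlg.relFrob p A B (b ⊗ₜ 1) = b ^ p := by
  rw [relFrob_tmul, map_one, map_one, mul_one]

lemma relFrob_one_tmul (a : FrobAlg.Twist p A) :
    FrobAlg.relFrob p A B (1 ⊗ₜ a) = algebraMap A B ((FrobAlg.toTwist p A).symm a) := by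
  rw [relFrob_tmul, one_pow, one_mul]

lemma natCast_baseChange : (p : FrobAlg.BaseChange p A B) = 0 := by
  rw [← map_natCast (algebraMap A (FrobAlg.BaseChange p A B)) p, CharP.cast_eq_zero A p, map_zero]

lemma add_pow_p {R : Type u} [CommRing R] (h : (p : R) = 0) (x y : R) :
    (x + y) ^ p = x ^ p + y ^ p := by
  obtain ⟨r, hr⟩ := exists_add_pow_prime_eq (Fact.out : p.Prime) x y
  rw [hr, h, zero_mul, zero_mul, zero_mul, add_zero]

/-- The Frobenius of the twist factors through the relative Frobenius. -/
lemma pow_p_eq (x : FrobAlg.BaseChange p A B) : x ^ p = FrobAlg.relFrob p A B x ⊗ₜ[A] 1 := by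
  induction x using TensorProduct.induction_on with
  | zero => simp [zero_pow (Fact.out : p.Prime).ne_zero]
  | add x y hx hy =>
    rw [add_pow_p p (natCast_baseChange p A B), hx, hy, map_add, TensorProduct.add_tmul]
  | tmul b a =>
    rw [Algebra.TensorProduct.tmul_pow, relFrob_tmul, mul_comm, ← Algebra.smul_def,
      TensorProduct.smul_tmul, Algebra.smul_def, mul_one, FrobAlg.algebraMap_twist, map_pow,
      RingEquiv.apply_symm_apply]

lemma pow_p_eq_zero {x : FrobAlg.BaseChange p A B} (h : FrobAlg.relFrob p A B x = 0) : x ^ p = 0 := by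
  rw [pow_p_eq, h, TensorProduct.zero_tmul]

lemma isIntegral_relFrob : (FrobAlg.relFrob p A B).IsIntegral := fun b =>
  ⟨Polynomial.X ^ p - Polynomial.C (b ⊗ₜ[A] 1),
    Polynomial.monic_X_pow_sub_C _ (Fact.out : p.Prime).ne_zero, by
      simp [relFrob_tmul_one]⟩

omit [CharP A p] in
/-- If the kernel of `C → C ⧸ I` squares to zero, `p`-th powers only depend on the class. -/
lemma pow_p_eq_of_sub_mem {C : Type u} [CommRing C] (h : (p : C) = 0) {I : Ideal C} (hI : I ^ 2 = ⊥)
    {x y : C} (hxy : x - y ∈ I) : x ^ p = y ^ p := by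
  have hz : (x - y) ^ p = 0 := by
    have h2 : (x - y) ^ 2 = 0 := by
      have := Ideal.pow_mem_pow hxy 2
      rwa [hI, Ideal.mem_bot] at this
    exact pow_eq_zero_of_le (Fact.out : p.Prime).two_le h2
  have := add_pow_p p h (x - y) y
  rwa [sub_add_cancel, hz, zero_add] at this

section Criterion

variable {P C : Type u} [CommRing P] [CommRing C] [Algebra P C]

omit [Fact p.Prime] in
/-- A flat unramified purely inseparable map of finite type with nil kernel is bijective. -/
theorem bijective_of_radicial [Algebra.FormallyUnramified P C] [Module.Flat P C]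
    [Algebra.EssFiniteType P C] (hp : p.Prime) (hpC : (p : C) = 0)
    (hpow : ∀ c : C, ∃ x : P, algebraMap P C x = c ^ p)
    (hnil : ∀ x : P, algebraMap P C x = 0 → IsNilpotent x) :
    Function.Bijective (algebraMap P C) := by
  haveI : Fact p.Prime := ⟨hp⟩
  haveI : Algebra.IsIntegral P C := by
    refine ⟨fun c => ?_⟩
    obtain ⟨x, hx⟩ := hpow c
    exact ⟨Polynomial.X ^ p - Polynomial.C x, Polynomial.monic_X_pow_sub_C _ hp.ne_zero, by simp [hx]⟩
  haveI : Module.FaithfullyFlat P C := Module.FaithfullyFlat.of_comap_surjective fun q => by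
    have hker : RingHom.ker (algebraMap P C) ≤ q.asIdeal := fun x hx =>
      q.2.mem_of_pow_mem _ (by
        have := (hnil x hx).choose_spec
        rw [this]; exact zero_mem _)
    obtain ⟨Q, -, hQ, hQc⟩ := Ideal.exists_ideal_over_prime_of_isIntegral q.asIdeal (⊥ : Ideal C)
      (by rwa [← RingHom.ker_eq_comap_bot])
    exact ⟨⟨Q, hQ⟩, PrimeSpectrum.ext hQc⟩
  -- the diagonal ideal is zero
  have hideal : KaehlerDifferential.ideal P C = ⊥ := by
    obtain ⟨e, he, hspan⟩ := (Ideal.isIdempotentElem_iff_of_fg _ (KaehlerDifferential.ideal_fg P C)).mp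
      ((Ideal.cotangent_subsingleton_iff _).mp <| inferInstanceAs <| Subsingleton Ω[C⁄P])
    have hle : KaehlerDifferential.ideal P C ≤ nilradical (C ⊗[P] C) := by
      rw [← KaehlerDifferential.span_range_eq_ideal, Ideal.span_le]
      rintro _ ⟨c, rfl⟩
      refine ⟨p, ?_⟩
      have hpt : (p : C ⊗[P] C) = 0 := by
        rw [← map_natCast (algebraMap C (C ⊗[P] C)) p, hpC, map_zero]
      obtain ⟨x, hx⟩ := hpow c
      have h1 : ((1 : C) ⊗ₜ[P] c) ^ p = (c ⊗ₜ[P] (1 : C)) ^ p := by
        rw [Algebra.TensorProduct.tmul_pow, Algebra.TensorProduct.tmul_pow, one_pow, ← hx,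
          Algebra.algebraMap_eq_smul_one, TensorProduct.smul_tmul]
      have := add_pow_p p hpt ((1 : C) ⊗ₜ[P] c - c ⊗ₜ[P] (1 : C)) (c ⊗ₜ[P] (1 : C))
      rw [sub_add_cancel, h1] at this
      exact add_eq_right.mp this.symm
    have hnz : IsNilpotent e := hle (hspan ▸ Ideal.mem_span_singleton_self e)
    rw [hspan, he.eq_zero_of_isNilpotent hnz]
    simp
  -- descend
  have hincl : ∀ c : C, (1 : C) ⊗ₜ[P] c = c ⊗ₜ[P] 1 := by
    intro c
    have : (1 : C) ⊗ₜ[P] c - c ⊗ₜ[P] 1 ∈ KaehlerDifferential.ideal P C := by
      rw [← KaehlerDifferential.span_range_eq_ideal]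
      exact Ideal.subset_span ⟨c, rfl⟩
    rw [hideal] at this
    exact sub_eq_zero.mp this
  refine (Module.FaithfullyFlat.lTensor_bijective_iff_bijective P C (Algebra.linearMap P C)).mp ⟨?_, ?_⟩
  · intro z z' h
    have key : ∀ z : C ⊗[P] P, LinearMap.mul' P C ((Algebra.linearMap P C).lTensor C z)
        = TensorProduct.rid P C z := by
      intro z
      induction z using TensorProduct.induction_on with
      | zero => simp
      | add z w hz hw => simp [map_add, hz, hw]
      | tmul c x => simp [Algebra.smul_def, mul_comm]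
    apply (TensorProduct.rid P C).injective
    rw [← key, ← key, h]
  · intro z
    refine ⟨LinearMap.mul' P C z ⊗ₜ 1, ?_⟩
    induction z using TensorProduct.induction_on with
    | zero => simp
    | add z w hz hw =>
      rw [map_add, TensorProduct.add_tmul, map_add, hz, hw]
    | tmul c d =>
      rw [LinearMap.mul'_apply, LinearMap.lTensor_tmul, Algebra.linearMap_apply, map_one]
      calc (c * d) ⊗ₜ[P] (1 : C) = c ⊗ₜ[P] (1 : C) * (d ⊗ₜ[P] (1 : C)) := by
            rw [Algebra.TensorProduct.tmul_mul_tmul, one_mul]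
        _ = c ⊗ₜ[P] d := by rw [← hincl d, Algebra.TensorProduct.tmul_mul_tmul, mul_one, one_mul]

end Criterion

/-- The relative Frobenius of an étale algebra is bijective. -/
theorem bijective_of_etale [Algebra.Etale A B] : Function.Bijective (FrobAlg.relFrob p A B) := by
  let P := FrobAlg.BaseChange p A B
  letI algAP : Algebra A P := ((Algebra.TensorProduct.includeRight (R := A) (A := B)
    (B := FrobAlg.Twist p A)).toRingHom.comp (FrobAlg.toTwist p A).toRingHom).toAlgebra
  haveI hAP : @Algebra.Etale A P _ _ algAP := by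
    let e := Algebra.TensorProduct.commRight A (FrobAlg.Twist p A) B
    have h1 : Algebra.Etale (FrobAlg.Twist p A) (FrobAlg.BaseChange p A B) := Algebra.Etale.of_equiv e
    exact h1
  letI algPB : Algebra P B := (FrobAlg.relFrob p A B).toAlgebra
  have hst : @IsScalarTower A P B algAP.toSMul _ _ := IsScalarTower.of_algebraMap_eq fun a => by
    show algebraMap A B a = FrobAlg.relFrob p A B ((1 : B) ⊗ₜ[A] FrobAlg.toTwist p A a)
    rw [relFrob_one_tmul, RingEquiv.symm_apply_apply]
  haveI : Algebra.Etale P B := Algebra.Etale.of_restrictScalars (R := A) (A := P) (B := B)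
  exact bijective_of_radicial (P := P) (C := B) p Fact.out (CharP.cast_eq_zero B p)
    (fun c => ⟨c ⊗ₜ[A] 1, relFrob_tmul_one p A B c⟩)
    (fun x hx => ⟨p, pow_p_eq_zero p A B hx⟩)

/-- An algebra with bijective relative Frobenius is formally étale. -/
theorem formallyEtale_of_bijective (h : Function.Bijective (FrobAlg.relFrob p A B)) :
    Algebra.FormallyEtale A B := by
  rw [Algebra.FormallyEtale.iff_comp_bijective]
  intro C _ _ I hI
  have hpC : (p : C) = 0 := by
    rw [← map_natCast (algebraMap A C) p, CharP.cast_eq_zero A p, map_zero]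
  constructor
  · intro φ₁ φ₂ hφ
    ext b
    obtain ⟨x, rfl⟩ := h.2 b
    induction x using TensorProduct.induction_on with
    | zero => simp
    | add x y hx hy => simp only [map_add, hx, hy]
    | tmul b a =>
      rw [relFrob_tmul, map_mul, map_mul, map_pow, map_pow, AlgHom.commutes, AlgHom.commutes]
      congr 1
      refine pow_p_eq_of_sub_mem p hpC hI ?_
      exact Ideal.Quotient.eq.mp (AlgHom.congr_fun hφ b)
  · intro f
    choose s hs using fun b => Ideal.Quotient.mk_surjective (f b)
    have hwd : ∀ {x y : C}, Ideal.Quotient.mk I x = Ideal.Quotient.mk I y → x ^ p = y ^ p :=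
      fun e => pow_p_eq_of_sub_mem p hpC hI (Ideal.Quotient.eq.mp e)
    let g0 : B →+* C :=
      { toFun := fun b => s b ^ p
        map_one' := (hwd (y := 1) (by rw [hs, map_one, map_one])).trans (one_pow p)
        map_mul' := fun a b => (hwd (y := s a * s b) (by rw [hs, map_mul, map_mul, hs, hs])).trans
          (mul_pow _ _ _)
        map_zero' := (hwd (y := 0) (by rw [hs, map_zero, map_zero])).trans
          (zero_pow (Fact.out : p.Prime).ne_zero)
        map_add' := fun a b => (hwd (y := s a + s b) (by rw [hs, map_add, map_add, hs, hs])).trans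
          (add_pow_p p hpC _ _) }
    letI : Algebra A (FrobAlg.Target p A C) :=
      (((algebraMap A C).comp (frobenius A p)) : A →+* C).toAlgebra
    let gl : B →ₐ[A] FrobAlg.Target p A C :=
      { (g0 : B →+* C) with
        commutes' := fun a => by
          show s (algebraMap A B a) ^ p = algebraMap A C (frobenius A p a)
          rw [frobenius_def, map_pow]
          exact hwd (by rw [hs, AlgHom.commutes]; rfl) }
    let gr : FrobAlg.Twist p A →ₐ[A] FrobAlg.Target p A C :=
      { (algebraMap A C).comp ((FrobAlg.toTwist p A).symm : FrobAlg.Twist p A →+* A) with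
        commutes' := fun a => by
          show algebraMap A C ((FrobAlg.toTwist p A).symm (algebraMap A (FrobAlg.Twist p A) a)) = _
          rw [FrobAlg.algebraMap_twist, RingEquiv.symm_apply_apply]
          rfl }
    let G : FrobAlg.BaseChange p A B →+* C :=
      (Algebra.TensorProduct.lift gl gr fun _ _ => Commute.all _ _).toRingHom
    have hG : ∀ b a, G (b ⊗ₜ a) = s b ^ p * algebraMap A C ((FrobAlg.toTwist p A).symm a) :=
      fun b a => Algebra.TensorProduct.lift_tmul gl gr (fun _ _ => Commute.all _ _) b a
    let e := RingEquiv.ofBijective (FrobAlg.relFrob p A B) h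
    refine ⟨{ G.comp e.symm.toRingHom with commutes' := fun a => ?_ }, ?_⟩
    · show G (e.symm (algebraMap A B a)) = _
      have : e.symm (algebraMap A B a) = (1 : B) ⊗ₜ[A] FrobAlg.toTwist p A a := by
        rw [RingEquiv.symm_apply_eq]
        show algebraMap A B a = FrobAlg.relFrob p A B ((1 : B) ⊗ₜ[A] FrobAlg.toTwist p A a)
        rw [relFrob_one_tmul, RingEquiv.symm_apply_apply]
      rw [this, hG, RingEquiv.symm_apply_apply]
      rw [show s 1 ^ p = 1 from map_one g0, one_mul]
    · refine AlgHom.ext fun b => ?_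
      obtain ⟨x, rfl⟩ := e.surjective b
      show Ideal.Quotient.mk I (G (e.symm (e x))) = f (e x)
      rw [RingEquiv.symm_apply_apply]
      show _ = f (FrobAlg.relFrob p A B x)
      induction x using TensorProduct.induction_on with
      | zero => simp
      | add x y hx hy => simp only [map_add, hx, hy]
      | tmul b a =>
        rw [hG, relFrob_tmul, map_mul, map_pow, map_mul, map_pow, hs, AlgHom.commutes]
        rfl

/-- Formally unramified iff formally unramified over the Frobenius twist. -/
theorem formallyUnramified_iff :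
    Algebra.FormallyUnramified A B ↔
      @Algebra.FormallyUnramified (FrobAlg.BaseChange p A B) B _ _
        (FrobAlg.relFrob p A B).toAlgebra := by
  let P := FrobAlg.BaseChange p A B
  letI algPB : Algebra P B := (FrobAlg.relFrob p A B).toAlgebra
  let ι : A →+* P := (Algebra.TensorProduct.includeRight (R := A) (A := B)
    (B := FrobAlg.Twist p A)).toRingHom.comp (FrobAlg.toTwist p A).toRingHom
  have hι : ∀ a, FrobAlg.relFrob p A B (ι a) = algebraMap A B a := fun a => by
    show FrobAlg.relFrob p A B ((1 : B) ⊗ₜ[A] FrobAlg.toTwist p A a) = _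
    rw [relFrob_one_tmul, RingEquiv.symm_apply_apply]
  constructor
  · intro hu
    rw [Algebra.FormallyUnramified.iff_comp_injective]
    intro C _ _ I hI φ₁ φ₂ hφ
    letI : Algebra A C := ((algebraMap P C).comp ι).toAlgebra
    let ψ : (B →ₐ[P] C) → (B →ₐ[A] C) := fun φ =>
      { φ.toRingHom with
        commutes' := fun a => by
          show φ (algebraMap A B a) = algebraMap P C (ι a)
          rw [← hι, ← φ.commutes]
          rfl }
    have := (Algebra.FormallyUnramified.iff_comp_injective.mp hu) I hI
      (a₁ := ψ φ₁) (a₂ := ψ φ₂) (AlgHom.ext fun b => AlgHom.congr_fun hφ b)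
    exact AlgHom.ext fun b => AlgHom.congr_fun this b
  · intro hu
    rw [Algebra.FormallyUnramified.iff_comp_injective]
    intro C _ _ I hI φ₁ φ₂ hφ
    have hpC : (p : C) = 0 := by
      rw [← map_natCast (algebraMap A C) p, CharP.cast_eq_zero A p, map_zero]
    letI : Algebra P C := (φ₁.toRingHom.comp (FrobAlg.relFrob p A B)).toAlgebra
    have hsame : ∀ x, φ₂ (FrobAlg.relFrob p A B x) = φ₁ (FrobAlg.relFrob p A B x) := by
      intro x
      induction x using TensorProduct.induction_on with
      | zero => simp
      | add x y hx hy => simp only [map_add, hx, hy]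
      | tmul b a =>
        rw [relFrob_tmul, map_mul, map_mul, map_pow, map_pow, AlgHom.commutes, AlgHom.commutes]
        congr 1
        exact pow_p_eq_of_sub_mem p hpC hI
          (Ideal.Quotient.eq.mp (AlgHom.congr_fun hφ b).symm)
    let ψ₁ : B →ₐ[P] C := { φ₁.toRingHom with commutes' := fun x => rfl }
    let ψ₂ : B →ₐ[P] C := { φ₂.toRingHom with commutes' := fun x => hsame x }
    have := (Algebra.FormallyUnramified.iff_comp_injective.mp hu) I hI
      (a₁ := ψ₁) (a₂ := ψ₂) (AlgHom.ext fun b => AlgHom.congr_fun hφ b)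
    exact AlgHom.ext fun b => AlgHom.congr_fun this b

/-- Over a perfect base, an algebra with injective relative Frobenius is reduced. -/
theorem frobenius_injective [PerfectRing A p] (h : Function.Injective (FrobAlg.relFrob p A B)) :
    Function.Injective (frobenius B p) := by
  rw [injective_iff_map_eq_zero]
  intro b hb
  have h0 : b ⊗ₜ[A] (1 : FrobAlg.Twist p A) = 0 := by
    apply h
    rw [relFrob_tmul_one, map_zero]
    exact hb
  let r : FrobAlg.Twist p A →ₐ[A] B :=
    { ((algebraMap A B).comp (((frobeniusEquiv A p).symm : A →+* A).comp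
        ((FrobAlg.toTwist p A).symm : FrobAlg.Twist p A →+* A))) with
      commutes' := fun a => by
        show algebraMap A B ((frobeniusEquiv A p).symm
          ((FrobAlg.toTwist p A).symm (algebraMap A (FrobAlg.Twist p A) a))) = algebraMap A B a
        rw [FrobAlg.algebraMap_twist, RingEquiv.symm_apply_apply, ← frobenius_def,
          ← frobeniusEquiv_apply (R := A), RingEquiv.symm_apply_apply] }
  have := congrArg (Algebra.TensorProduct.lift (AlgHom.id A B) r fun _ _ => Commute.all _ _) h0
  simpa using this

end Groth.Agent.RelFrob23
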